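import Mathlib
import Cfsg.Agent.Lib.MaxCl.Basic
import Cfsg.Agent.Lib.W2.Tools
import Cfsg.Agent.Lib.Comp.Quasisimple

/-!
Groups with a Sylow `p`-subgroup of maximal class: a uniform element outside a normal subgroup
of order divisible by `p ^ 2` is uniform in every Sylow subgroup containing it; a normal subgroup
with Sylow subgroup of order `p` is central when `O_{p'}(G) = 1` and `O^{p'}(G) = G`.
-/

set_option autoImplicit false

namespace CfsgLib.MaxCl

open Subgroup Cfsg CfsgLib.Tech CfsgLib.PComp CfsgLib.W2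
open scoped commutatorElement

section pgrp

variable {Q : Type*} [Group Q] {Q' : Type*} [Group Q'] {p n : ℕ}

theorem equiv_mem_L (e : Q ≃* Q') {i : ℕ} {g : Q} : e g ∈ L Q' i ↔ g ∈ L Q i :=
  ⟨fun h => by simpa using map_mem_L e.symm.toMonoidHom h, fun h => map_mem_L e.toMonoidHom h⟩

theorem equiv_mem_K (e : Q ≃* Q') {i : ℕ} {g : Q} (h : e g ∈ K Q' i) : g ∈ K Q i := by
  refine mem_K.2 fun a ha => (equiv_mem_L e).1 ?_
  rw [map_commutatorElement]
  exact mem_K.1 h _ ((equiv_mem_L e).2 ha)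

theorem Unif.equiv (e : Q ≃* Q') {s : Q} (h : Unif Q n s) : Unif Q' n (e s) :=
  ⟨fun h1 => h.1 ((equiv_mem_L e).1 h1), fun i hi hi' h1 => h.2 i hi hi' (equiv_mem_K e h1)⟩

theorem iterC_mem_of {D : Subgroup Q} {x y : Q} (hx : x ∈ D) (hy : y ∈ D) (j : ℕ) :
    iterC x y j ∈ D := by
  induction j with
  | zero => exact hy
  | succ j ih =>
    rw [iterC_succ, commutatorElement_def]
    exact mul_mem (mul_mem (mul_mem ih hx) (inv_mem ih)) (inv_mem hx)

variable [Finite Q] [hp : Fact p.Prime]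

namespace MC

theorem equiv (h : MC Q p n) (e : Q ≃* Q') : MC Q' p n := by
  haveI := h.pgroup.isNilpotent
  haveI : Group.IsNilpotent Q' := nilpotent_of_mulEquiv e
  refine ⟨h.three, (Nat.card_congr e.toEquiv).symm.trans h.card, le_antisymm ?_ ?_⟩
  · exact (nilpotencyClass_le_of_surjective e.toMonoidHom e.surjective).trans h.cls.le
  · exact h.cls.ge.trans (nilpotencyClass_le_of_surjective e.symm.toMonoidHom e.symm.surjective)

theorem L_le_of_normal (h : MC Q p n) (T : Subgroup Q) [T.Normal] {k : ℕ}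
    (hk : p ^ k ≤ Nat.card T) (hn : k + 2 ≤ n) : L Q (n - k - 1) ≤ T := by
  obtain ⟨A, hA, hAT, hc⟩ := PGroup.exists_normal_le_card_eq h.pgroup T k hk
  have hi : A.index = p ^ (n - k) := by
    have h1 := A.card_mul_index
    rw [hc, h.card, show n = k + (n - k) by omega, pow_add] at h1
    simpa using Nat.eq_of_mul_eq_mul_left (pow_pos hp.out.pos k) h1
  have := PGroup.eq_lowerCentralSeries_of_maximal_class h.card h.cls A (by omega) hi
  exact this.ge.trans hAT

theorem exists_unif_not_mem (h : MC Q p n) {T : Subgroup Q} (hT : T ≠ ⊤) :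
    ∃ s, s ∉ T ∧ Unif Q n s := by
  have two : ∀ A : Subgroup Q, A ≠ ⊤ → ∃ s, s ∉ T ∧ s ∉ A := fun A hA => by
    by_contra hc
    push Not at hc
    have h1 : ((⊤ : Subgroup Q) : Set Q) ⊆ (T : Set Q) ∪ A := fun s _ =>
      (em (s ∈ T)).imp id (hc s)
    rcases SubgroupClass.subset_union.1 h1 with h2 | h2
    · exact hT (top_le_iff.1 h2)
    · exact hA (top_le_iff.1 h2)
  have h3 := h.three
  by_cases hn : p + 2 ≤ n
  · obtain ⟨s, h1, h2⟩ := two (K Q 1) (h.K_ne_top (by have := hp.out.two_le; omega))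
    exact ⟨s, h1, h.unif_of_not_mem hn h2⟩
  by_cases hn3 : n = 3
  · obtain ⟨s, h1, h2⟩ := two (K Q 0) (h.K_ne_top (by omega))
    exact ⟨s, h1, fun h4 => h2 (L_le_K 0 h4), fun i hi hi' => by omega⟩
  obtain ⟨s, hs⟩ := exists_forall_not_mem h.pgroup (Finset.range (n - 2))
    (fun i => if i = 0 then T else K Q i) (by rw [Finset.card_range]; omega) (fun i hi => by
      rw [Finset.mem_range] at hi
      split_ifs
      · exact hT
      · exact h.K_ne_top (by omega))
  have hK : ∀ i, 1 ≤ i → i + 3 ≤ n → s ∉ K Q i := fun i hi hi' => by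
    have := hs i (Finset.mem_range.2 (by omega))
    rwa [if_neg (by omega)] at this
  refine ⟨s, ?_, fun h4 => hK 1 le_rfl (by omega) (L_le_K 1 h4), hK⟩
  simpa using hs 0 (Finset.mem_range.2 (by omega))

theorem mem_L_of_not_unif (h : MC Q p n) {D : Subgroup Q} (hD : D ≠ ⊤) {x y : Q} (hx : Unif Q n x)
    (hy : ¬ Unif Q n y) (hxD : x ∈ D) (hyD : y ∈ D) : y ∈ L Q 1 := by
  by_contra h1
  refine hy ⟨h1, fun i hi hi' h2 => hD (top_le_iff.1 ?_)⟩
  rw [← h.closure_eq_top (L_le_K i) h2 h1 (hx.2 i hi hi'), closure_le]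
  exact Set.pair_subset hyD hxD

theorem L_le_of_unif (h : MC Q p n) {D : Subgroup Q} {x y : Q} (hx : Unif Q n x) (hxD : x ∈ D)
    (hyD : y ∈ D) (hy : y ∈ L Q 1) {m : ℕ} (hm : y ∉ L Q m) : L Q m ≤ D := by
  classical
  have hex : ∃ j, y ∉ L Q (j + 1) := ⟨m, fun h1 => hm (L_anti (by omega) h1)⟩
  obtain ⟨j, hj, hj'⟩ : ∃ j, y ∉ L Q (j + 1) ∧ ∀ i < j, y ∈ L Q (i + 1) :=
    ⟨Nat.find hex, Nat.find_spec hex, fun i hi => not_not.1 (Nat.find_min hex hi)⟩
  have hj1 : 1 ≤ j := Nat.pos_of_ne_zero fun h0 => hj (h0 ▸ hy)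
  have hyj : y ∈ L Q j := by
    have := hj' (j - 1) (by omega)
    rwa [show j - 1 + 1 = j by omega] at this
  have hjm : j ≤ m := by
    by_contra h1
    exact hm (L_anti (by omega) hyj)
  have key : ∀ k i, j ≤ i → n - 1 - k ≤ i → L Q i ≤ D := by
    intro k
    induction k with
    | zero => intro i _ hi; rw [h.L_eq_bot (by omega)]; exact bot_le
    | succ k ih =>
      intro i hi hi'
      by_cases h1 : n - 1 - k ≤ i
      · exact ih i hi h1
      obtain ⟨l, rfl⟩ := Nat.exists_eq_add_of_le hi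
      exact h.le_of_mem (by omega) (ih _ (by omega) (by omega)) (iterC_mem x hyj l)
        (h.iterC_not_mem hj1 hyj hj fun a ha ha' => hx.2 a (by omega) (by omega))
        (iterC_mem_of hxD hyD l)
  exact key n m hjm (by omega)

theorem sq_le_card_centralizer (h : MC Q p n) {s : Q} (hs : s ∉ L Q 1) :
    p ^ 2 ≤ Nat.card (centralizer {s} : Subgroup Q) := by
  have h3 := h.three
  have h1 : L Q (n - 2) < centralizer {s} := by
    refine lt_of_le_of_ne (h.L_le_center.trans (center_le_centralizer _)) fun h2 => hs ?_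
    refine L_anti (show 1 ≤ n - 2 by omega) ?_
    rw [h2]
    exact mem_centralizer_singleton_iff.2 rfl
  obtain ⟨k, hk⟩ := (h.pgroup.to_subgroup (centralizer {s})).exists_card_eq
  have h2 : Nat.card (L Q (n - 2)) < Nat.card (centralizer {s} : Subgroup Q) :=
    Set.ncard_lt_ncard h1 (Set.toFinite _)
  rw [h.card_L (by omega), hk, Nat.pow_lt_pow_iff_right hp.out.one_lt] at h2
  rw [hk]
  exact Nat.pow_le_pow_right hp.out.pos (by omega)

end MC

end pgrp

section amb

variable {G : Type*} [Group G] [Finite G] {p n : ℕ} [hp : Fact p.Prime]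

/-- `x` is a uniform element of the subgroup `Q` -/
def U (n : ℕ) (Q : Subgroup G) (x : G) : Prop := ∃ h : x ∈ Q, Unif Q n ⟨x, h⟩

omit [Finite G] in
theorem U.cj {Q : Subgroup G} {x : G} (h : U n Q x) (g : G) : U n (cj g Q) (g * x * g⁻¹) :=
  ⟨conj_mem_cj.2 h.1, h.2.equiv (cjEquiv g Q)⟩

theorem card_lt_of_lt {A B : Subgroup G} (h : A < B) : Nat.card A < Nat.card B :=
  Set.ncard_lt_ncard h (Set.toFinite _)

theorem MC.u_conj {Q D N : Subgroup G} [N.Normal] (h : MC Q p n)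
    (hN : p ^ 2 ≤ Nat.card (Q ⊓ N : Subgroup G)) (hD : D < Q) {x g : G} (hx : U n Q x)
    (hxD : x ∈ D) (hxN : x ∉ N) (hg : g ∈ normalizer (D : Set G)) : U n Q (g * x * g⁻¹) := by
  have hyD := conj_mem_of_mem_normalizer hg hxD
  have hyN : g * x * g⁻¹ ∉ N := fun h1 => hxN (by simpa [mul_assoc] using ‹N.Normal›.conj_mem' _ h1 g)
  refine ⟨hD.le hyD, ?_⟩
  by_contra hy
  obtain ⟨hxQ, hx⟩ := hx
  have hD' : D.subgroupOf Q ≠ ⊤ := fun h1 => hD.not_ge (subgroupOf_eq_top.1 h1)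
  have hy1 := h.mem_L_of_not_unif hD' hx hy hxD hyD
  have hc : p ^ 2 ≤ Nat.card (N.subgroupOf Q) := by
    rw [← inf_subgroupOf_left, Nat.card_congr (subgroupOfEquivOfLe inf_le_left).toEquiv]
    exact hN
  have h3 := h.three
  by_cases hn : n = 3
  · have h1 := h.L_le_of_normal (N.subgroupOf Q) (k := 1)
      ((Nat.pow_le_pow_right hp.out.pos (by omega)).trans hc) (by omega)
    rw [show n - 1 - 1 = 1 by omega] at h1
    exact hyN (h1 hy1)
  have hWN := h.L_le_of_normal (N.subgroupOf Q) hc (by omega)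
  have hWD := h.L_le_of_unif (D := D.subgroupOf Q) hx hxD hyD hy1 fun h1 => hyN (hWN h1)
  set W := Tech.cj g⁻¹ ((L Q (n - 2 - 1)).map Q.subtype) with hW
  have hWc : Nat.card W = p ^ 2 := by
    rw [hW, card_cj, card_map_of_injective Q.subtype_injective, h.card_L (by omega)]
    congr 1; omega
  have hmem : ∀ w ∈ W, w ∈ D ∧ w ∈ N ∧ w * x = x * w := fun w hw => by
    obtain ⟨a, ha, e⟩ := mem_cj.1 hw
    have e' : w = g⁻¹ * a * g := by rw [coe_subtype] at e; rw [e]; group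
    have h1 : ⁅a, (⟨g * x * g⁻¹, hD.le hyD⟩ : Q)⁆ = 1 := by
      have := comm_mem_L₂ ha hy1
      rwa [h.L_eq_bot (by omega), mem_bot] at this
    have h2 : (a : G) * (g * x * g⁻¹) = g * x * g⁻¹ * a :=
      congrArg Subtype.val (commutatorElement_eq_one_iff_mul_comm.1 h1)
    refine ⟨e' ▸ conj_mem_of_mem_normalizer' hg (hWD ha), e' ▸ ‹N.Normal›.conj_mem' _ (hWN ha) g,
      ?_⟩
    rw [e']
    calc g⁻¹ * a * g * x = g⁻¹ * (a * (g * x * g⁻¹)) * g := by group
      _ = x * (g⁻¹ * a * g) := by rw [h2]; group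
  have hlt : W.subgroupOf Q < centralizer {(⟨x, hxQ⟩ : Q)} := by
    refine lt_of_le_of_ne (fun w hw => mem_centralizer_singleton_iff.2
      (Subtype.ext (hmem _ hw).2.2)) fun h1 => hxN (hmem x ?_).2.1
    have h2 : (⟨x, hxQ⟩ : Q) ∈ W.subgroupOf Q := h1 ▸ mem_centralizer_singleton_iff.2 rfl
    exact h2
  have h1 := (card_lt_of_lt hlt).trans_le (h.card_centralizer_le hx)
  rw [Nat.card_congr (subgroupOfEquivOfLe fun w hw => hD.le (hmem w hw).1).toEquiv, hWc] at h1
  exact lt_irrefl _ h1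

theorem u_of_sylow {N : Subgroup G} [N.Normal] (h : ∀ Q : Subgroup G, IsSylowIn p Q ⊤ → MC Q p n)
    (hN : ∀ Q : Subgroup G, IsSylowIn p Q ⊤ → p ^ 2 ≤ Nat.card (Q ⊓ N : Subgroup G)) (m : ℕ) :
    ∀ Q₁ Q₂ : Subgroup G, IsSylowIn p Q₁ ⊤ → IsSylowIn p Q₂ ⊤ →
      Nat.card G ≤ m + Nat.card (Q₁ ⊓ Q₂ : Subgroup G) → ∀ x ∈ Q₂, x ∉ N → U n Q₁ x → U n Q₂ x := by
  induction m using Nat.strong_induction_on with
  | _ m ih =>
  intro Q₁ Q₂ h₁ h₂ hm x hx₂ hxN hx
  by_cases he : Q₁ = Q₂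
  · exact he ▸ hx
  set D := Q₁ ⊓ Q₂ with hD
  have hD₁ : D < Q₁ := lt_of_le_of_ne inf_le_left fun h1 =>
    he (h₁.eq_of_le h₂.pgroup (inf_eq_left.1 h1) le_top).symm
  have hD₂ : D < Q₂ := lt_of_le_of_ne inf_le_right fun h1 =>
    he (h₂.eq_of_le h₁.pgroup (inf_eq_right.1 h1) le_top)
  have hR₁ := lt_inf_normalizer_of_lt h₁.pgroup hD₁
  have hR₂ := lt_inf_normalizer_of_lt h₂.pgroup hD₂
  obtain ⟨T, hT, hRT⟩ := exists_isSylowIn_ge (h₁.pgroup.to_le inf_le_left)
    (inf_le_right : Q₁ ⊓ normalizer (D : Set G) ≤ _)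
  obtain ⟨Q₃, h₃, hTQ⟩ := exists_isSylowIn_ge hT.pgroup (le_top (a := T))
  obtain ⟨g, hg, hgR⟩ := hT.exists_cj_le (h₂.pgroup.to_le inf_le_left)
    (inf_le_right : Q₂ ⊓ normalizer (D : Set G) ≤ _)
  have hxD : x ∈ D := ⟨hx.1, hx₂⟩
  have step : ∀ A B : Subgroup G, IsSylowIn p A ⊤ → IsSylowIn p B ⊤ →
      Nat.card D < Nat.card (A ⊓ B : Subgroup G) → ∀ y ∈ B, y ∉ N → U n A y → U n B y :=
    fun A B hA hB hc => by
      have h1 : Nat.card (A ⊓ B : Subgroup G) ≤ Nat.card G := card_le_card_group _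
      exact ih (m - 1) (by omega) A B hA hB (by omega)
  have hD₃ : D < Q₃ := hR₁.trans_le (hRT.trans hTQ)
  have hx₃ := step Q₁ Q₃ h₁ h₃ (card_lt_of_lt (hR₁.trans_le
    (le_inf inf_le_left (hRT.trans hTQ)))) x (hD₃.le hxD) hxN hx
  have hy₃ := (h Q₃ h₃).u_conj (hN Q₃ h₃) hD₃ hx₃ hxD hxN hg
  have hy₂ := step Q₃ (Tech.cj g Q₂) h₃ (h₂.cj_of_mem (mem_top g)) (by
    refine (card_lt_of_lt hR₂).trans_le ?_
    rw [← card_cj g]
    exact card_le_of_le (le_inf (hgR.trans hTQ) (cj_mono g inf_le_left))) _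
    (conj_mem_cj.2 hx₂) (fun h1 => hxN (by simpa [mul_assoc] using ‹N.Normal›.conj_mem' _ h1 g)) hy₃
  have := hy₂.cj g⁻¹
  rwa [cj_inv_cj, show g⁻¹ * (g * x * g⁻¹) * g⁻¹⁻¹ = x by group] at this

theorem exists_factorization_eq_two {P N : Subgroup G} [N.Normal] (hP : IsSylowIn p P ⊤)
    (h : MC P p n) (hN : p ^ 2 ≤ Nat.card (P ⊓ N : Subgroup G)) (hPN : ¬ P ≤ N) :
    ∃ x ∈ P, (Nat.card (centralizer ({x} : Set G))).factorization p = 2 := by
  have h1 : ∀ Q : Subgroup G, IsSylowIn p Q ⊤ → MC Q p n := fun Q hQ => by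
    obtain ⟨g, -, rfl⟩ := hP.exists_cj_eq hQ
    exact h.equiv (cjEquiv g P)
  have h2 : ∀ Q : Subgroup G, IsSylowIn p Q ⊤ → p ^ 2 ≤ Nat.card (Q ⊓ N : Subgroup G) :=
    fun Q hQ => by
      obtain ⟨g, -, rfl⟩ := hP.exists_cj_eq hQ
      rwa [← cj_eq_of_normal g N, ← cj_inf, card_cj]
  obtain ⟨s, hsN, hs⟩ := h.exists_unif_not_mem (T := N.subgroupOf P)
    fun h3 => hPN (subgroupOf_eq_top.1 h3)
  refine ⟨s, s.2, ?_⟩
  obtain ⟨R, hR, hsR⟩ := exists_isSylowIn_ge (H := Cx (s : G))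
    (isPGroup_zpowers_of_mem hP.pgroup s.2) (zpowers_le.2 (mem_Cx.2 rfl))
  obtain ⟨Q, hQ, hRQ⟩ := exists_isSylowIn_ge hR.pgroup (le_top (a := R))
  obtain ⟨hsQ, hsU⟩ := u_of_sylow h1 h2 _ P Q hP hQ (Nat.le_add_right _ _) s
    (hRQ (hsR (mem_zpowers _))) hsN ⟨s.2, hs⟩
  have h3 : Nat.card R ≤ p ^ 2 := by
    refine le_trans ?_ ((h1 Q hQ).card_centralizer_le hsU)
    rw [← Nat.card_congr (subgroupOfEquivOfLe hRQ).toEquiv]
    exact card_le_of_le fun r hr => mem_centralizer_singleton_iff.2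
      (Subtype.ext (mem_Cx.1 (hR.le hr)))
  have h4 : p ^ 2 ≤ Nat.card R := by
    refine (h.sq_le_card_centralizer hs.1).trans ?_
    rw [← card_map_of_injective P.subtype_injective]
    refine hR.card_le (hP.pgroup.to_le (map_subtype_le _)) ?_
    rintro _ ⟨a, ha, rfl⟩
    exact mem_Cx.2 (congrArg Subtype.val (mem_centralizer_singleton_iff.1 ha))
  have h5 := hR.card_eq_pow
  rw [le_antisymm h3 h4] at h5
  exact (Nat.pow_right_injective hp.out.two_le h5).symm

theorem eq_top_of_sylow_le {P N : Subgroup G} [hN : N.Normal] (hP : IsSylowIn p P ⊤)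
    (hres : ∀ N : Subgroup G, N.Normal → N.index.Coprime p → N = ⊤) (h : P ≤ N) : N = ⊤ := by
  refine hres N hN ((hp.out.coprime_iff_not_dvd).2 fun h1 => hP.not_dvd ?_).symm
  rw [relIndex_top_right]
  exact h1.trans (index_dvd_of_le h)

/-- a normal subgroup whose Sylow subgroup `P ⊓ N` lies in `Z(P) ⊓ P'` -/
theorem eq_inf_of_central {P N : Subgroup G} [hN : N.Normal] (hP : IsSylowIn p P ⊤)
    (hcore : pPrimeCore p G = ⊥) (hz : ∀ t ∈ P ⊓ N, ∀ a ∈ P, a * t = t * a)
    (hc : P ⊓ N ≤ ⁅P, P⁆) : N ≤ P := by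
  set T := P ⊓ N with hT
  have hTN : IsSylowIn p T N := by
    simpa using hP.inf_of_le_normalizer (N := N) (by simp [normalizer_eq_top])
  set C := centralizer (T : Set G) with hC
  have hPC : P ≤ C := fun a ha => mem_centralizer_iff.2 fun t ht => (hz t ht a ha).symm
  have hTK : IsSylowIn p T (N ⊓ C) := hTN.of_le (le_inf inf_le_right (inf_le_left.trans hPC))
    inf_le_left
  have hK := le_of_npc (npc_of_burnside hTK fun k hk _ t ht =>
    (mem_centralizer_iff.1 hk.2 t ht).symm) hTK (M := T ⊔ opOf p (N ⊓ C)) le_sup_right le_sup_left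
  set D := opOf p (N ⊓ C) with hD
  have hND : normalizer (T : Set G) ≤ normalizer (D : Set G) := fun e he =>
    normalizer_le_normalizer_opOf _ (mem_normalizer_iff_cj.2 (by
      rw [cj_inf, cj_eq_of_normal, hC, cj_centralizer, mem_normalizer_iff_cj.1 he]))
  have hCN : C ≤ normalizer (T : Set G) := centralizer_le_normalizer _
  have hb : ∀ e ∈ N, e ∈ normalizer (T : Set G) → ∀ t ∈ T, e * t = t * e := by
    intro e he heT t ht
    let D' := D.subgroupOf (normalizer (T : Set G))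
    haveI : D'.Normal := (normal_subgroupOf_iff_le_normalizer
      ((opOf_le _).trans (inf_le_right.trans hCN))).2 hND
    let π := QuotientGroup.mk' D'
    let e' : normalizer (T : Set G) := ⟨e, heT⟩
    have h1 : ∀ a : normalizer (T : Set G), (a : G) ∈ P →
        ∃ u : normalizer (T : Set G), (u : G) ∈ T ∧ π e' * π a * (π e')⁻¹ = π u * π a := by
      intro a ha
      have h2 : e * a * e⁻¹ * (a : G)⁻¹ ∈ N ⊓ C := by
        refine mem_inf.2 ⟨?_, mul_mem ?_ (inv_mem (hPC ha))⟩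
        · simpa [mul_assoc] using mul_mem he (hN.conj_mem _ (inv_mem he) a)
        · have : e ∈ normalizer (C : Set G) := mem_normalizer_iff_cj.2 (by
            rw [hC, cj_centralizer, mem_normalizer_iff_cj.1 heT])
          exact conj_mem_of_mem_normalizer this (hPC ha)
      obtain ⟨u, hu, d, hd, h3⟩ := (Coprime.mem_sup_iff_of_le_normalizer'
        (le_normalizer.trans hND)).1 (hK h2)
      have hd' := hCN (opOf_le _ hd).2
      refine ⟨⟨u, le_normalizer hu⟩, hu, ?_⟩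
      have h4 : π ⟨d, hd'⟩ = 1 := (QuotientGroup.eq_one_iff _).2 hd
      have h5 : e' * a * e'⁻¹ = ⟨u, le_normalizer hu⟩ * ⟨d, hd'⟩ * a := Subtype.ext (by
        simp only [coe_mul, coe_inv, e']; rw [h3]; group)
      rw [← map_inv, ← map_mul, ← map_mul, h5, map_mul, map_mul, h4, mul_one]
    let F : Subgroup G := ((centralizer {π e'}).comap π).map (normalizer (T : Set G)).subtype
    have h2 : ⁅P, P⁆ ≤ F := commutator_le.2 fun a ha b hb => by
      let a' : normalizer (T : Set G) := ⟨a, hCN (hPC ha)⟩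
      let b' : normalizer (T : Set G) := ⟨b, hCN (hPC hb)⟩
      refine ⟨⁅a', b'⁆, mem_comap.2 (mem_centralizer_singleton_iff.2 ?_), rfl⟩
      obtain ⟨u, hu, e1⟩ := h1 a' ha
      obtain ⟨v, hv, e2⟩ := h1 b' hb
      have cm : ∀ x : normalizer (T : Set G), (x : G) ∈ T → ∀ y : normalizer (T : Set G),
          (y : G) ∈ P → Commute (π x) (π y) := fun x hx y hy =>
        (show Commute x y from Subtype.ext (hz x hx y hy).symm).map π
      have h3 : π e' * ⁅π a', π b'⁆ * (π e')⁻¹ = ⁅π a', π b'⁆ := by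
        rw [conjugate_commutatorElement, e1, e2, comm_mul_left,
          ((cm u hu v hv.1).mul_right (cm u hu b' hb)).commutator_eq, mul_one,
          ← commutatorElement_inv, comm_mul_left, (cm v hv a' ha).commutator_eq, mul_one]
        have h4 := (cm v hv ⁅b', a'⁆ ?_).eq
        have h5 := (cm u hu ⁅a', b'⁆ ?_).eq
        · rw [map_commutatorElement] at h4 h5
          rw [h4, mul_inv_cancel_right, commutatorElement_inv, h5, mul_inv_cancel_right]
        · exact mul_mem (mul_mem (mul_mem ha hb) (inv_mem ha)) (inv_mem hb)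
        · exact mul_mem (mul_mem (mul_mem hb ha) (inv_mem hb)) (inv_mem ha)
      rw [map_commutatorElement, ← mul_inv_eq_iff_eq_mul.1 h3]
    obtain ⟨t', h3, rfl⟩ := h2 (hc ht)
    have h4 : ⁅e', t'⁆ ∈ D' := by
      rw [← QuotientGroup.ker_mk' D', MonoidHom.mem_ker, map_commutatorElement,
        commutatorElement_eq_one_iff_mul_comm]
      exact (mem_centralizer_singleton_iff.1 (mem_comap.1 h3)).symm
    have h5 : ⁅e, (t' : G)⁆ ∈ T ⊓ D :=
      mem_inf.2 ⟨mul_mem (conj_mem_of_mem_normalizer heT ht) (inv_mem ht), h4⟩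
    rw [isPGroup_inf_opOf hTN.pgroup, mem_bot] at h5
    exact commutatorElement_eq_one_iff_mul_comm.1 h5
  refine le_of_npc (npc_of_burnside hTN hb) hTN ?_ inf_le_left
  exact (opOf_le_pPrimeCore (Normal.isSubnormal hN)).trans (hcore.le.trans bot_le)

theorem dichotomy {P : Subgroup G} (hP : IsSylowIn p P ⊤) (h : MC P p n)
    (hcore : pPrimeCore p G = ⊥)
    (hres : ∀ N : Subgroup G, N.Normal → N.index.Coprime p → N = ⊤) :
    (∃ x ∈ P, (Nat.card (centralizer ({x} : Set G))).factorization p = 2) ∨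
      (IsQuasisimple G ∧ Nat.card (center G) ≤ p) := by
  refine or_iff_not_imp_left.2 fun hx => ?_
  have h3 := h.three
  have key : ∀ N : Subgroup G, N.Normal → N ≠ ⊤ → N ≤ center G ∧ Nat.card N ≤ p := by
    intro N hN hne
    have h1 : Nat.card (P ⊓ N : Subgroup G) < p ^ 2 := not_le.1 fun h1 =>
      hx (exists_factorization_eq_two hP h h1 fun h2 => hne (eq_top_of_sylow_le hP hres h2))
    obtain ⟨k, hk⟩ := (hP.pgroup.to_le (inf_le_left : P ⊓ N ≤ P)).exists_card_eq
    have hk1 : k ≤ 1 := by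
      rw [hk, Nat.pow_lt_pow_iff_right hp.out.one_lt] at h1
      omega
    have h2 : N.subgroupOf P ≤ L P (n - 2) := by
      have hc : Nat.card (N.subgroupOf P) = p ^ k := by
        rw [← inf_subgroupOf_left, Nat.card_congr (subgroupOfEquivOfLe inf_le_left).toEquiv, hk]
      rcases Nat.le_one_iff_eq_zero_or_eq_one.1 hk1 with rfl | rfl
      · rw [eq_bot_of_card_eq _ hc]; exact bot_le
      · refine (eq_of_le_of_card_ge (h.L_le_of_normal _ hc.ge (by omega)) ?_).ge
        rw [hc, h.card_L (by omega)]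
        exact Nat.pow_le_pow_right hp.out.pos (by omega)
    have hz : ∀ t ∈ P ⊓ N, ∀ a ∈ P, a * t = t * a := fun t ht a ha =>
      congrArg Subtype.val (mem_center_iff.1 (h.L_le_center (h2 (x := ⟨t, ht.1⟩) ht.2)) ⟨a, ha⟩)
    have hNP := eq_inf_of_central hP hcore hz fun t ht => by
      have h4 := L_anti (show 1 ≤ n - 2 by omega) (h2 (x := ⟨t, ht.1⟩) ht.2)
      exact (top_subtype_lowerCentralSeries P 1).le (mem_map_of_mem P.subtype h4)
    refine ⟨centralizer_eq_top_iff_subset.1 (eq_top_of_sylow_le hP hres fun a ha =>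
      mem_centralizer_iff.2 fun t ht => (hz t ⟨hNP ht, ht⟩ a ha).symm), ?_⟩
    rw [← inf_eq_right.2 hNP, hk]
    exact (Nat.pow_le_pow_right hp.out.pos hk1).trans (pow_one p).le
  have hZ : center G ≠ ⊤ := fun h1 => by
    obtain ⟨g, hg, hg'⟩ := h.exists_not_mem le_rfl (by omega)
    refine hg' (?_ : g ∈ L P 2)
    have : L P 1 ≤ ⊥ := commutator_le.2 fun a _ b _ => mem_bot.2
      (commutatorElement_eq_one_iff_mul_comm.2 (Subtype.ext
        (mem_center_iff.1 (h1.ge (mem_top (b : G))) a)))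
    exact bot_le (α := Subgroup P) (this hg)
  refine ⟨Comp.isQuasisimple_iff.2 ⟨⟨?_⟩, ?_, fun N hN => or_iff_not_imp_left.2
    fun h1 => (key N hN h1).1⟩, (key _ inferInstance hZ).2⟩
  · by_contra h1
    have h2 := (key _ inferInstance h1).1
    refine hZ (top_le_iff.1 fun g _ => ?_)
    haveI : (zpowers g ⊔ center G).Normal := Normal.of_commutator_le _ (h2.trans le_sup_right)
    by_cases h4 : zpowers g ⊔ center G = ⊤
    · refine mem_center_iff.2 fun a => ?_
      have h5 : zpowers g ⊔ center G ≤ Cx g :=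
        sup_le (zpowers_le.2 (mem_Cx.2 rfl)) (center_le_centralizer _)
      exact mem_Cx.1 (h5 (h4.ge (mem_top a)))
    · exact (key _ this h4).1 (mem_sup_left (mem_zpowers g))
  · by_contra h1
    rw [not_nontrivial_iff_subsingleton] at h1
    exact hZ (Subsingleton.elim _ _)

end amb

end CfsgLib.MaxCl
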